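import Mathlib
import Cfsg.Prelude.Def_Solvable
import Cfsg.Agent.Lib.Helper24.SelfCent

set_option autoImplicit false
set_option linter.style.haveILetI false
open Cfsg

namespace Cfsg.Agent.Lib.Helper7

/-- Burnside: if `N(T) ≤ C(T)` for a Sylow subgroup, `O_{p'}` has `p`-power index. -/
theorem exists_index_pPrimeCore_of_normalizer_le {H : Type*} [Group H] [Finite H] {p : ℕ}
    [Fact p.Prime] (T : Sylow p H)
    (hNC : Subgroup.normalizer ((T : Subgroup H) : Set H)
      ≤ Subgroup.centralizer ((T : Subgroup H) : Set H)) :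
    ∃ k : ℕ, (pPrimeCore p H).index = p ^ k := by
  have hcompl := MonoidHom.ker_transferSylow_isComplement' T hNC
  have hcard : (Nat.card (MonoidHom.transferSylow T hNC).ker).Coprime p := by
    have h1 : Nat.card (MonoidHom.transferSylow T hNC).ker = (T : Subgroup H).index :=
      (hcompl.index_eq_card).symm
    rw [h1]
    have h2 := T.card_coprime_index
    rw [T.card_eq_multiplicity] at h2
    by_cases h0 : (Nat.card H).factorization p = 0
    · -- `p` does not divide the order
      have : ¬ p ∣ Nat.card H := by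
        intro hd
        have := (Nat.Prime.dvd_iff_one_le_factorization Fact.out Nat.card_pos.ne').1 hd
        omega
      apply Nat.Coprime.symm
      rw [Nat.Prime.coprime_iff_not_dvd Fact.out]
      intro hd
      exact this (hd.trans (Subgroup.index_dvd_card _))
    · exact (Nat.Coprime.symm ((Nat.coprime_pow_left_iff (Nat.pos_of_ne_zero h0) _ _).1 h2))
  have h1 : (MonoidHom.transferSylow T hNC).ker ≤ pPrimeCore p H :=
    Cfsg.Agent.Lib.Helper24.SC.le_pPrimeCore inferInstance hcard
  have h2 : (pPrimeCore p H).index ∣ (MonoidHom.transferSylow T hNC).ker.index :=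
    Subgroup.index_dvd_of_le h1
  rw [hcompl.symm.index_eq_card, T.card_eq_multiplicity] at h2
  obtain ⟨k, _, hk⟩ := (Nat.dvd_prime_pow Fact.out).1 h2
  exact ⟨k, hk⟩

theorem klein_normalizer_le_centralizer {H : Type*} [Group H] [Finite H] (T : Sylow 2 H)
    (hT : IsKleinFour (T : Subgroup H)) {z : H} (hzT : z ∈ (T : Subgroup H)) (hz1 : z ≠ 1)
    (hzc : ∀ h : H, h * z = z * h) :
    Subgroup.normalizer ((T : Subgroup H) : Set H)
      ≤ Subgroup.centralizer ((T : Subgroup H) : Set H) := by
  intro h hh
  have hcard : Nat.card (T : Subgroup H) = 4 := hT.card_four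
  obtain ⟨a, haT, ha1, haz⟩ : ∃ a ∈ (T : Subgroup H), a ≠ 1 ∧ a ≠ z := by
    by_contra hcon
    push Not at hcon
    have : Nat.card (T : Subgroup H) ≤ 2 := by
      have hsub : ((T : Subgroup H) : Set H) ⊆ {1, z} := fun u hu => by
        by_cases h1 : u = 1
        · simp [h1]
        · simp [hcon u hu h1]
      calc Nat.card (T : Subgroup H) = ((T : Subgroup H) : Set H).ncard := rfl
        _ ≤ ({1, z} : Set H).ncard := Set.ncard_le_ncard hsub (Set.toFinite _)
        _ ≤ 2 := by
          have := Set.ncard_insert_le (1 : H) ({z} : Set H)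
          rwa [Set.ncard_singleton] at this
    omega
  have hsq : ∀ u ∈ (T : Subgroup H), u * u = 1 := fun u hu => by
    have := IsKleinFour.mul_self (⟨u, hu⟩ : (T : Subgroup H))
    exact congrArg Subtype.val this
  have hcomm : ∀ u ∈ (T : Subgroup H), ∀ w ∈ (T : Subgroup H), u * w = w * u := by
    intro u hu w hw
    have := mul_comm_of_exponent_two hT.exponent_two (⟨u, hu⟩ : (T : Subgroup H)) ⟨w, hw⟩
    exact congrArg Subtype.val this
  have hcls : ∀ u ∈ (T : Subgroup H), u = 1 ∨ u = z ∨ u = a ∨ u = z * a := by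
    intro u hu
    by_contra hcon
    push Not at hcon
    have := IsKleinFour.eq_mul_of_ne_all (x := (⟨z, hzT⟩ : (T : Subgroup H))) (y := ⟨a, haT⟩)
      (z := ⟨u, hu⟩) (fun h => hz1 (congrArg Subtype.val h)) (fun h => ha1 (congrArg Subtype.val h))
      (fun h => haz (congrArg Subtype.val h).symm) (fun h => hcon.1 (congrArg Subtype.val h))
      (fun h => hcon.2.1 (congrArg Subtype.val h)) (fun h => hcon.2.2.1 (congrArg Subtype.val h))
    exact hcon.2.2.2 (congrArg Subtype.val this)
  have hb : h * a * h⁻¹ ∈ (T : Subgroup H) := (Subgroup.mem_set_normalizer_iff.1 hh a).1 haT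
  have hmain : h * a * h⁻¹ = a := by
    rcases hcls _ hb with h1 | h1 | h1 | h1
    · exfalso
      apply ha1
      have : a = h⁻¹ * (h * a * h⁻¹) * h := by group
      rw [this, h1]; group
    · exfalso
      apply haz
      have : a = h⁻¹ * (h * a * h⁻¹) * h := by group
      rw [this, h1, mul_assoc, ← hzc h]; group
    · exact h1
    · exfalso
      have hpow : ∀ j : ℕ, h ^ j * a * (h ^ j)⁻¹ = z ^ j * a := by
        intro j
        induction j with
        | zero => simp
        | succ j ih =>
          have e1 : h ^ (j + 1) * a * (h ^ (j + 1))⁻¹ = h * (h ^ j * a * (h ^ j)⁻¹) * h⁻¹ := by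
            rw [pow_succ']; group
          have hzj : h * z ^ j = z ^ j * h := (Commute.pow_right (show Commute h z from hzc h) j)
          rw [e1, ih]
          calc h * (z ^ j * a) * h⁻¹ = (h * z ^ j) * a * h⁻¹ := by group
            _ = z ^ j * (h * a * h⁻¹) := by rw [hzj]; group
            _ = z ^ (j + 1) * a := by rw [h1, pow_succ]; group
      obtain ⟨k, m, hm, hkm⟩ := Nat.exists_eq_two_pow_mul_odd (orderOf_pos h).ne'
      have hzm : z ^ m = z := by
        obtain ⟨t, rfl⟩ := hm
        rw [pow_succ, pow_mul, pow_two, hsq z hzT, one_pow, one_mul]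
      have hm0 : m ≠ 0 := by
        rintro rfl
        exact absurd hm (by decide)
      have hord : orderOf (h ^ m) = 2 ^ k := by
        rw [orderOf_pow_of_dvd hm0 ⟨2 ^ k, by rw [hkm, mul_comm]⟩, hkm]
        exact Nat.mul_div_cancel _ (Nat.pos_of_ne_zero hm0)
      have hQ1 : IsPGroup 2 (Subgroup.zpowers (h ^ m)) := by
        apply IsPGroup.of_card (n := k)
        rw [Nat.card_zpowers, hord]
      have hle : Subgroup.zpowers (h ^ m) ≤ Subgroup.normalizer ((T : Subgroup H) : Set H) := by
        rw [Subgroup.zpowers_le]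
        exact Subgroup.pow_mem _ hh m
      have hQ := IsPGroup.to_sup_of_normal_right' hQ1 T.isPGroup' hle
      have hmax := T.is_maximal' hQ le_sup_right
      have hmem : h ^ m ∈ (T : Subgroup H) := by
        rw [← hmax]
        exact (le_sup_left : Subgroup.zpowers (h ^ m) ≤ _) (Subgroup.mem_zpowers _)
      have h2 := hpow m
      rw [hzm, hcomm _ hmem a haT, mul_assoc, mul_inv_cancel, mul_one] at h2
      apply hz1
      have : z * a = 1 * a := by rw [← h2, one_mul]
      exact mul_right_cancel this
  have hha : a * h = h * a := by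
    have := mul_inv_eq_iff_eq_mul.1 hmain
    exact this.symm
  rw [Subgroup.mem_centralizer_iff]
  intro u hu
  rcases hcls u hu with rfl | rfl | rfl | rfl
  · simp
  · exact (hzc h).symm
  · exact hha
  · rw [mul_assoc, hha, ← mul_assoc, ← hzc h, mul_assoc]

end Cfsg.Agent.Lib.Helper7
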