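import Mathlib
import Cfsg.Agent.Lib.Helper10.SigmaB1
import Cfsg.Agent.Lib.Helper24.BlockDim

/-! If all `p'`-degree characters of the principal `p`-block are linear then `O^p(G)` is a
`p'`-group. -/

set_option autoImplicit false
set_option linter.style.haveILetI false

namespace Cfsg.Agent.Lib.Helper7

open Cfsg Cfsg.Agent.Lib.Helper24 Cfsg.Agent.Lib.Helper25 Cfsg.Agent.Lib.Helper1
  Cfsg.Agent.Lib.Helper10.SigmaB0

universe u

/-- weighted fixed point congruence for `p`-groups -/
theorem sum_modEq_sum_fixedPoints_h7 {p : ℕ} [Fact p.Prime] {P α : Type*} [Group P] [MulAction P α]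
    [Fintype α] [Fintype (MulAction.fixedPoints P α)] (hP : IsPGroup p P) (f : α → ℕ)
    (hf : ∀ (x : P) (a : α), f (x • a) = f a) :
    ∑ a, f a ≡ ∑ a : MulAction.fixedPoints P α, f a [MOD p] := by
  classical
  let β := {x : α × ℕ // x.2 < f x.1}
  letI : MulAction P β :=
    { smul := fun x b => ⟨(x • b.1.1, b.1.2), by
        show b.1.2 < f (x • b.1.1)
        rw [hf]; exact b.2⟩
      one_smul := fun b => Subtype.ext (Prod.ext (one_smul P b.1.1) rfl)
      mul_smul := fun x y b => Subtype.ext (Prod.ext (mul_smul x y b.1.1) rfl) }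
  let e1 : β ≃ (Σ a : α, Fin (f a)) :=
    { toFun := fun b => ⟨b.1.1, ⟨b.1.2, b.2⟩⟩
      invFun := fun s => ⟨(s.1, s.2.1), s.2.2⟩
      left_inv := fun b => rfl
      right_inv := fun s => rfl }
  haveI : Finite β := Finite.of_equiv _ e1.symm
  have h1 := hP.card_modEq_card_fixedPoints β
  have hsm : ∀ (x : P) (b : β), (x • b).1 = (x • b.1.1, b.1.2) := fun x b => rfl
  let e2 : MulAction.fixedPoints P β ≃ (Σ a : MulAction.fixedPoints P α, Fin (f a)) :=
    { toFun := fun b => ⟨⟨b.1.1.1, fun x => by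
          have := congrArg (fun z : β => z.1.1) (b.2 x)
          exact this⟩, ⟨b.1.1.2, b.1.2⟩⟩
      invFun := fun s => ⟨⟨(s.1.1, s.2.1), s.2.2⟩, fun x =>
          Subtype.ext (Prod.ext (s.1.2 x) rfl)⟩
      left_inv := fun b => rfl
      right_inv := fun s => rfl }
  rw [Nat.card_congr e1, Nat.card_congr e2, Nat.card_sigma, Nat.card_sigma] at h1
  simpa using h1

/-- a linear character of `O^p(G)` with `λ^p = 1` is trivial -/
theorem hom_pResidual_eq_one_h7 {G : Type u} [Group G] [Finite G] {p : ℕ} (hp : p.Prime)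
    (φ : pResidual p G →* ℂˣ) (h : φ ^ p = 1) : φ = 1 := by
  have hle : pResidual p G ≤ (φ.ker).map (pResidual p G).subtype := by
    unfold pResidual
    rw [Subgroup.closure_le]
    intro g hg
    refine ⟨⟨g, Subgroup.subset_closure hg⟩, ?_, rfl⟩
    have hg' : Nat.Coprime (orderOf g) p := hg
    set x : pResidual p G := ⟨g, Subgroup.subset_closure hg⟩ with hx
    have h1 : φ x ^ orderOf g = 1 := by
      rw [← map_pow]
      have : x ^ orderOf g = 1 := Subtype.ext (by
        rw [Subgroup.coe_pow]; exact pow_orderOf_eq_one g)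
      rw [this, map_one]
    have h2 : φ x ^ p = 1 := by
      have := congrArg (fun ψ : pResidual p G →* ℂˣ => ψ x) h
      simpa using this
    have h3 : orderOf (φ x) ∣ Nat.gcd (orderOf g) p :=
      Nat.dvd_gcd (orderOf_dvd_of_pow_eq_one h1) (orderOf_dvd_of_pow_eq_one h2)
    rw [hg'.gcd_eq_one, Nat.dvd_one, orderOf_eq_one_iff] at h3
    exact h3
  ext n
  obtain ⟨y, hy, hyx⟩ := hle n.2
  have : y = n := Subtype.ext hyx
  rw [← this]
  have hy' : φ y = 1 := hy
  rw [hy']
  simp

/-- the irreducible character of a homomorphism to `ℂˣ` -/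
noncomputable def homIrr_h7 {N : Type u} [Group N] (φ : N →* ℂˣ) : IrrCharacter N :=
  ⟨fun n => (φ n : ℂ), isIrrCharacter_of_hom φ⟩

theorem homIrr_h7_mem_iff {N : Type u} [Group N] {M : Ideal AlgInt} (φ : N →* ℂˣ) :
    homIrr_h7 φ ∈ principalBlock M N ↔ ∀ g : N, MemLocalIdeal M
      (((Subgroup.centralizer ({g} : Set N)).index : ℂ)
        - ((Subgroup.centralizer ({g} : Set N)).index : ℂ) * (φ g : ℂ)) := by
  show (∀ g : N, MemLocalIdeal M (centralChar (fun _ : N => (1 : ℂ)) g
    - centralChar (fun n => (φ n : ℂ)) g)) ↔ _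
  refine forall_congr' fun g => ?_
  rw [centralChar_one]
  simp [centralChar]

/-- the linear characters of the principal block invariant under a subgroup form a group -/
noncomputable def linB0_h7 {G : Type u} [Group G] [Finite G] (M : Ideal AlgInt) [M.IsPrime]
    (N : Subgroup G) [hN : N.Normal] (P : Subgroup G) : Subgroup (N →* ℂˣ) where
  carrier := {φ | homIrr_h7 φ ∈ principalBlock M N ∧
    ∀ x ∈ P, ∀ n : N, φ ⟨x * n * x⁻¹, hN.conj_mem n n.2 x⟩ = φ n}
  one_mem' := by
    refine ⟨?_, fun x _ n => rfl⟩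
    rw [homIrr_h7_mem_iff]
    intro g
    simpa using memLocalIdeal_zero
  mul_mem' := by
    rintro φ ψ ⟨h1, h2⟩ ⟨h3, h4⟩
    refine ⟨?_, fun x hx n => by
      rw [MonoidHom.mul_apply, MonoidHom.mul_apply, h2 x hx, h4 x hx]⟩
    rw [homIrr_h7_mem_iff] at h1 h3 ⊢
    intro g
    have hint : MemLocalRing M (φ g : ℂ) := memLocalRing_of_isIntegral
      (char_isIntegral (isCharacter_of_irr (isIrrCharacter_of_hom φ)) g)
    have := memLocalIdeal_add (h1 g) (memLocalIdeal_mul_left hint (h3 g))
    convert this using 1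
    rw [MonoidHom.mul_apply, Units.val_mul]
    ring
  inv_mem' := by
    rintro φ ⟨h1, h2⟩
    refine ⟨?_, fun x hx n => by
      rw [MonoidHom.inv_apply, MonoidHom.inv_apply, h2 x hx]⟩
    rw [homIrr_h7_mem_iff] at h1 ⊢
    intro g
    have hint : MemLocalRing M ((φ⁻¹ g : ℂˣ) : ℂ) := memLocalRing_of_isIntegral
      (char_isIntegral (isCharacter_of_irr (isIrrCharacter_of_hom φ⁻¹)) g)
    have := memLocalIdeal_neg (memLocalIdeal_mul_left hint (h1 g))
    convert this using 1
    rw [MonoidHom.inv_apply, Units.val_inv_eq_inv_val]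
    have : ((φ g : ℂˣ) : ℂ) ≠ 0 := Units.ne_zero _
    field_simp
    ring

theorem not_dvd_card_pResidual_h7 {G : Type u} [Group G] [Finite G] {p : ℕ} [hp : Fact p.Prime]
    {M : Ideal AlgInt} (hM : IsPModular p M)
    (hyp : ∀ χ ∈ principalBlock M G, ¬ p ∣ charDegree (χ : G → ℂ) →
      charDegree (χ : G → ℂ) = 1) : ¬ p ∣ Nat.card (pResidual p G) := by
  classical
  intro hdiv
  haveI := hM.2.1.isPrime
  haveI hN : (pResidual p G).Normal := inferInstance
  obtain ⟨P⟩ : Nonempty (Sylow p G) := inferInstance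
  haveI : Finite (IrrCharacter (pResidual p G)) := Cfsg.Agent.Lib.Helper2.finite_irrCharacter
  haveI : Fintype (IrrCharacter (pResidual p G)) := Fintype.ofFinite _
  haveI : Fintype (MulAction.fixedPoints (P : Subgroup G) (IrrCharacter (pResidual p G))) :=
    Fintype.ofFinite _
  let f : IrrCharacter (pResidual p G) → ℕ :=
    (principalBlock M (pResidual p G)).indicator
      (fun ψ => charDegree (ψ : pResidual p G → ℂ) ^ 2)
  have hmem : ∀ (x : G) (θ : IrrCharacter (pResidual p G)),
      x • θ ∈ principalBlock M (pResidual p G) ↔ θ ∈ principalBlock M (pResidual p G) := by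
    intro x θ
    refine ⟨fun h => ?_, smul_mem_principalBlock hM _ x⟩
    have := smul_mem_principalBlock hM _ x⁻¹ h
    rwa [inv_smul_smul] at this
  have hf : ∀ (x : (P : Subgroup G)) (θ : IrrCharacter (pResidual p G)), f (x • θ) = f θ := by
    intro x θ
    show (principalBlock M (pResidual p G)).indicator
      (fun ψ => charDegree (ψ : pResidual p G → ℂ) ^ 2) ((x : G) • θ)
      = (principalBlock M (pResidual p G)).indicator
      (fun ψ => charDegree (ψ : pResidual p G → ℂ) ^ 2) θ
    by_cases h : θ ∈ principalBlock M (pResidual p G)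
    · rw [Set.indicator_of_mem h, Set.indicator_of_mem ((hmem _ _).2 h), charDegree_smul]
    · rw [Set.indicator_of_notMem h, Set.indicator_of_notMem (fun h' => h ((hmem _ _).1 h'))]
  have h1 := sum_modEq_sum_fixedPoints_h7 P.2 f hf
  -- the total sum is divisible by p
  obtain ⟨PN⟩ : Nonempty (Sylow p (pResidual p G)) := inferInstance
  haveI : Fintype (PN : Subgroup (pResidual p G)) := Fintype.ofFinite _
  choose n hn using exists_trivial_mult (PN : Subgroup (pResidual p G))
  have h2 := blockDim_eq hM (isPBlock_principalBlock (M := M) (G := pResidual p G))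
    (PN : Subgroup (pResidual p G)) PN.2 n hn
  have h3 : p ∣ ∑ θ, f θ := by
    show p ∣ ∑ ψ : IrrCharacter (pResidual p G), (principalBlock M (pResidual p G)).indicator
      (fun ψ => charDegree (ψ : pResidual p G → ℂ) ^ 2) ψ
    rw [h2]
    exact Dvd.dvd.mul_right (PN.dvd_card_of_dvd_card hdiv) _
  -- invariant members are linear
  have hreg : ∀ g : G, ¬ p ∣ orderOf g → g ∈ pResidual p G := by
    intro g hg
    apply Subgroup.subset_closure
    exact ((Nat.Prime.coprime_iff_not_dvd hp.out).2 hg).symm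
  obtain ⟨j, hj⟩ : ∃ j, (pResidual p G).index = p ^ j := by
    obtain ⟨n, hn⟩ := IsPGroup.iff_card.mp
      (Cfsg.Agent.Lib.Helper17.pResidual_quotient_isPGroup (G := G) (p := p))
    exact ⟨n, by rw [Subgroup.index_eq_card]; exact hn⟩
  have hlin : ∀ θ : IrrCharacter (pResidual p G), θ ∈ principalBlock M (pResidual p G) →
      ¬ p ∣ charDegree (θ : pResidual p G → ℂ) → (∀ x : (P : Subgroup G), (x : G) • θ = θ) →
      (θ : pResidual p G → ℂ) 1 = 1 := by
    intro θ h1 h2 h4
    have hinvP : InvUnder (pResidual p G) (P : Subgroup G) (θ : pResidual p G → ℂ) := by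
      intro s hs g g' hgg
      have h5 := h4 ⟨s⁻¹, inv_mem hs⟩
      have h6 := congrFun (congrArg Subtype.val h5) g
      rw [← h6]
      show (θ : pResidual p G → ℂ) g'
        = conjFun (pResidual p G) (θ : pResidual p G → ℂ) (s⁻¹)⁻¹ g
      rw [conjFun_apply]
      have h7 : g' = ⟨s⁻¹⁻¹ * (g : G) * s⁻¹⁻¹⁻¹, hN.conj_mem _ g.2 _⟩ := by
        apply Subtype.ext
        rw [hgg]
        simp
      rw [h7]
    have hinvG := invariant_of_sup_eq_top (pResidual p G) (P : Subgroup G)
      (Cfsg.Agent.Lib.Helper17.pResidual_sup_sylow P) (isClassFunction_irr θ) hinvP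
    obtain ⟨χ, hres, -, -⟩ := exists_fixed_extension hp.out (pResidual p G) hj θ hinvG h2
      (detOrder_coprime_pResidual hp.out (isCharacter_of_irr θ.2)) (k := 1)
      (Nat.coprime_one_left _) (fun n => by rw [pow_one])
    have hχB : χ ∈ principalBlock M G := (rt_mem_iff_of_regular_le hM _ hreg χ θ hres).2 h1
    have h11 : (χ : G → ℂ) 1 = (θ : pResidual p G → ℂ) 1 := hres 1
    have hdeg : charDegree (χ : G → ℂ) = charDegree (θ : pResidual p G → ℂ) := by
      unfold charDegree
      rw [h11]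
    have h7 := hyp χ hχB (hdeg ▸ h2)
    rw [← h11, ← charDegree_cast (isCharacter_of_irr χ.2), h7]
    simp
  -- the fixed point sum
  let Q : MulAction.fixedPoints (P : Subgroup G) (IrrCharacter (pResidual p G)) → Prop :=
    fun a => (a : IrrCharacter (pResidual p G)) ∈ principalBlock M (pResidual p G) ∧
      ¬ p ∣ charDegree ((a : IrrCharacter (pResidual p G)) : pResidual p G → ℂ)
  have h4 : ∑ a : MulAction.fixedPoints (P : Subgroup G) (IrrCharacter (pResidual p G)), f a
      ≡ Nat.card {a // Q a} [MOD p] := by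
    have h5 : Nat.card {a // Q a} = ∑ a : MulAction.fixedPoints (P : Subgroup G)
        (IrrCharacter (pResidual p G)), if Q a then 1 else 0 := by
      rw [Nat.card_eq_fintype_card, Fintype.card_subtype, Finset.card_filter]
    rw [h5, ← ZMod.natCast_eq_natCast_iff, Nat.cast_sum, Nat.cast_sum]
    refine Finset.sum_congr rfl fun a _ => ?_
    rw [ZMod.natCast_eq_natCast_iff]
    by_cases ha : (a : IrrCharacter (pResidual p G)) ∈ principalBlock M (pResidual p G)
    · show (principalBlock M (pResidual p G)).indicator _ _ ≡ _ [MOD p]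
      rw [Set.indicator_of_mem ha]
      by_cases hd : p ∣ charDegree ((a : IrrCharacter (pResidual p G)) : pResidual p G → ℂ)
      · rw [if_neg (fun h => h.2 hd)]
        exact (Nat.modEq_zero_iff_dvd.2 (Dvd.dvd.pow hd two_ne_zero))
      · rw [if_pos ⟨ha, hd⟩]
        have h6 := hlin a ha hd (fun x => a.2 x)
        rw [charDegree_eq (d := 1) (by rw [h6]; simp)]
        rfl
    · show (principalBlock M (pResidual p G)).indicator _ _ ≡ _ [MOD p]
      rw [Set.indicator_of_notMem ha, if_neg (fun h => ha h.1)]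
  -- comparison with the group of linear characters
  have hfixiff : ∀ φ : pResidual p G →* ℂˣ,
      (∀ x ∈ (P : Subgroup G), ∀ n : pResidual p G,
        φ ⟨x * n * x⁻¹, hN.conj_mem n n.2 x⟩ = φ n) →
      ∀ x : (P : Subgroup G), x • homIrr_h7 φ = homIrr_h7 φ := by
    intro φ h x
    apply Subtype.ext
    funext n
    show conjFun (pResidual p G) (homIrr_h7 φ : pResidual p G → ℂ) (x : G)⁻¹ n = _
    rw [conjFun_apply]
    show ((φ _ : ℂˣ) : ℂ) = φ n
    rw [h _ (inv_mem x.2)]
  have h5 : Nat.card (linB0_h7 M (pResidual p G) (P : Subgroup G)) = Nat.card {a // Q a} := by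
    refine Nat.card_eq_of_bijective (fun φ => ⟨⟨homIrr_h7 φ.1, hfixiff φ.1 φ.2.2⟩, φ.2.1, ?_⟩)
      ⟨?_, ?_⟩
    · have : charDegree (homIrr_h7 φ.1 : pResidual p G → ℂ) = 1 :=
        charDegree_eq (d := 1) (by simp [homIrr_h7])
      show ¬ p ∣ charDegree (homIrr_h7 φ.1 : pResidual p G → ℂ)
      rw [this]
      exact hp.out.one_lt.ne' ∘ Nat.dvd_one.1
    · intro φ ψ h
      have h6 : (homIrr_h7 φ.1 : pResidual p G → ℂ) = homIrr_h7 ψ.1 :=
        congrArg (fun a : {a // Q a} => ((a.1.1 : IrrCharacter (pResidual p G)) :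
          pResidual p G → ℂ)) h
      apply Subtype.ext
      ext n
      exact congrFun h6 n
    · rintro ⟨⟨θ, hθ⟩, hB, hd⟩
      obtain ⟨φ, hφ⟩ := exists_hom_of_linear (isCharacter_of_irr θ.2)
        (hlin θ hB hd (fun x => hθ x))
      have hθφ : homIrr_h7 φ = θ := Subtype.ext (funext fun n => (hφ n).symm)
      refine ⟨⟨φ, hθφ ▸ hB, fun x hx n => ?_⟩, ?_⟩
      · have h6 := congrFun (congrArg Subtype.val (hθ ⟨x⁻¹, inv_mem hx⟩)) n
        have h7 : conjFun (pResidual p G) (θ : pResidual p G → ℂ) (x⁻¹)⁻¹ n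
          = (θ : pResidual p G → ℂ) n := h6
        rw [conjFun_apply, hφ, hφ] at h7
        apply Units.ext
        rw [← h7]
        congr 3
        simp
      · apply Subtype.ext
        apply Subtype.ext
        exact hθφ
  have h6 : p ∣ Nat.card (linB0_h7 M (pResidual p G) (P : Subgroup G)) := by
    rw [h5]
    exact (Nat.modEq_zero_iff_dvd.1 ((h4.symm.trans h1.symm).trans
      (Nat.modEq_zero_iff_dvd.2 h3)))
  obtain ⟨φ, hφ⟩ := exists_prime_orderOf_dvd_card' p h6
  have h7 : (φ : pResidual p G →* ℂˣ) ^ p = 1 := by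
    have := pow_orderOf_eq_one φ
    rw [hφ] at this
    exact congrArg Subtype.val this
  have h8 := hom_pResidual_eq_one_h7 hp.out _ h7
  have h9 : φ = 1 := Subtype.ext h8
  rw [h9, orderOf_one] at hφ
  exact hp.out.one_lt.ne hφ

end Cfsg.Agent.Lib.Helper7
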